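/-
The action of Co0 on the Leech lattice reduced modulo an odd prime p, as 24 x 24 linear maps.
Main results: dotInt_map, linHom (Co0 →* End((ZMod p)^24)), linHom_red, form_linHom,
linHom_eq_one (faithfulness for p * p > 128), and `embed` (action on the orthogonal of a fixed vector).
-/
import Cfsg.Agent.Lib.Leech.Basic

set_option autoImplicit false
open Cfsg

namespace Cfsg.Agent.Co0Mod

theorem map_add' (g : ↥Co0) (v w : leechLattice) : g.1 (v + w) = g.1 v + g.1 w := g.2.1 v w

/-- An element of Co0 as an additive map. -/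
def addHom (g : ↥Co0) : leechLattice →+ leechLattice :=
  AddMonoidHom.mk' (fun v => g.1 v) (map_add' g)

theorem addHom_apply (g : ↥Co0) (v : leechLattice) : addHom g v = g.1 v := rfl

theorem sqNorm_map (g : ↥Co0) (v : leechLattice) :
    sqNorm ((g.1 v : leechLattice) : GolayPt → ℤ) = sqNorm (v : GolayPt → ℤ) := g.2.2 v

theorem sqNorm_add (x y : GolayPt → ℤ) :
    sqNorm (x + y) = sqNorm x + 2 * dotInt x y + sqNorm y := by
  simp only [sqNorm, dotInt, Pi.add_apply, Finset.mul_sum, ← Finset.sum_add_distrib]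
  exact Finset.sum_congr rfl fun i _ => by ring

theorem dotInt_map (g : ↥Co0) (v w : leechLattice) :
    dotInt ((g.1 v : leechLattice) : GolayPt → ℤ) (g.1 w : leechLattice) =
      dotInt (v : GolayPt → ℤ) (w : GolayPt → ℤ) := by
  have h := sqNorm_map g (v + w)
  rw [map_add', AddSubgroup.coe_add, AddSubgroup.coe_add, sqNorm_add, sqNorm_add, sqNorm_map,
    sqNorm_map] at h
  linarith

theorem single_mem (i : GolayPt) : (Pi.single i 8 : GolayPt → ℤ) ∈ leechLattice := by
  refine Leech.mem_iff.2 ⟨0, Pi.single i 4, fun j => ?_, ?_, ?_⟩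
  · by_cases h : j = i
    · subst h; simp
    · simp [h]
  · rw [Finset.sum_pi_single']
    simp [Int.ModEq]
  · have h : Leech.mod2 (Pi.single i 4 : GolayPt → ℤ) = 0 := by
      funext j
      by_cases h : j = i
      · subst h; simp [Leech.mod2]; decide
      · simp [Leech.mod2, h]
    rw [h]; exact Submodule.zero_mem _

/-- The lattice vector with 8 at one point. -/
def eight (i : GolayPt) : leechLattice := ⟨Pi.single i 8, single_mem i⟩

theorem sum_smul_eight (x : GolayPt → ℤ) :
    ((∑ i, x i • eight i : leechLattice) : GolayPt → ℤ) = (8 : ℤ) • x := by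
  funext j
  rw [AddSubgroup.val_finset_sum, Finset.sum_apply]
  simp [eight, Pi.single_apply, mul_comm]

theorem eight_smul_eq (x : leechLattice) :
    (8 : ℤ) • x = ∑ i, (x : GolayPt → ℤ) i • eight i :=
  Subtype.ext (by rw [sum_smul_eight, AddSubgroup.coe_zsmul])

variable (p : ℕ) [Fact p.Prime]

/-- Reduction modulo p. -/
def red : leechLattice →+ (GolayPt → ZMod p) where
  toFun v := fun i => ((v : GolayPt → ℤ) i : ZMod p)
  map_zero' := by funext i; simp
  map_add' v w := by funext i; simp

theorem red_apply (v : leechLattice) (i : GolayPt) :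
    red p v i = ((v : GolayPt → ℤ) i : ZMod p) := rfl

variable {p} (h8 : (8 : ZMod p) ≠ 0)

include h8 in
theorem red_surjective : Function.Surjective (red p) := by
  intro w
  refine ⟨∑ i, ((((8 : ZMod p)⁻¹ * w i).val : ℕ) : ℤ) • eight i, ?_⟩
  funext j
  rw [red_apply, sum_smul_eight]
  simp [mul_inv_cancel_left₀ h8]

variable (p) in
/-- The reduced linear map of an element of Co0. -/
noncomputable def lin (g : ↥Co0) : (GolayPt → ZMod p) →ₗ[ZMod p] (GolayPt → ZMod p) :=
  (8 : ZMod p)⁻¹ • Fintype.linearCombination (ZMod p) (fun i => red p (g.1 (eight i)))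

include h8 in
theorem lin_red (g : ↥Co0) (v : leechLattice) : lin p g (red p v) = red p (g.1 v) := by
  have h : (8 : ZMod p) • red p (g.1 v) =
      ∑ i, ((v : GolayPt → ℤ) i : ZMod p) • red p (g.1 (eight i)) := by
    have h1 : addHom g ((8 : ℤ) • v) = addHom g (∑ i, (v : GolayPt → ℤ) i • eight i) := by
      rw [eight_smul_eq]
    rw [map_zsmul, map_sum] at h1
    have h2 := congrArg (red p) h1
    rw [map_zsmul, map_sum, addHom_apply] at h2
    simp only [map_zsmul, addHom_apply, ← Int.cast_smul_eq_zsmul (ZMod p)] at h2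
    simpa using h2
  rw [lin, LinearMap.smul_apply, Fintype.linearCombination_apply]
  simp only [red_apply]
  rw [← h, smul_smul, inv_mul_cancel₀ h8, one_smul]

/-- The reduced action as a monoid homomorphism. -/
noncomputable def linHom : ↥Co0 →* ((GolayPt → ZMod p) →ₗ[ZMod p] (GolayPt → ZMod p)) where
  toFun := lin p
  map_one' := by
    refine LinearMap.ext fun w => ?_
    obtain ⟨v, rfl⟩ := red_surjective h8 w
    rw [lin_red h8]
    rfl
  map_mul' g h := by
    refine LinearMap.ext fun w => ?_
    obtain ⟨v, rfl⟩ := red_surjective h8 w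
    rw [Module.End.mul_apply, lin_red h8, lin_red h8, lin_red h8]
    rfl

theorem linHom_red (g : ↥Co0) (v : leechLattice) : linHom h8 g (red p v) = red p (g.1 v) :=
  lin_red h8 g v

variable (p) in
/-- The dot product with a fixed vector. -/
def form (u : GolayPt → ZMod p) : (GolayPt → ZMod p) →ₗ[ZMod p] ZMod p :=
  ∑ i, u i • LinearMap.proj i

theorem form_apply (u w : GolayPt → ZMod p) : form p u w = ∑ i, u i * w i := by
  simp [form]

theorem form_red (v w : leechLattice) :
    form p (red p v) (red p w) = ((dotInt (v : GolayPt → ℤ) (w : GolayPt → ℤ) : ℤ) : ZMod p) := by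
  simp [form_apply, red_apply, dotInt]

theorem form_linHom (g : ↥Co0) (u w : GolayPt → ZMod p) :
    form p (linHom h8 g u) (linHom h8 g w) = form p u w := by
  obtain ⟨v, rfl⟩ := red_surjective h8 u
  obtain ⟨z, rfl⟩ := red_surjective h8 w
  rw [linHom_red, linHom_red, form_red, form_red, dotInt_map]

/-- The vectors with two entries ±4. -/
theorem four_mem (i j : GolayPt) (hij : i ≠ j) (s : ℤ) (hs : s = 4 ∨ s = -4) :
    (Pi.single i 4 + Pi.single j s : GolayPt → ℤ) ∈ leechLattice := by
  refine Leech.mem_iff.2 ⟨0, Pi.single i 2 + Pi.single j (s / 2), fun k => ?_, ?_, ?_⟩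
  · rcases hs with rfl | rfl <;>
    · simp only [Pi.add_apply, Pi.single_apply]
      split_ifs <;> norm_num
  · simp only [Pi.add_apply, Finset.sum_add_distrib]
    rw [Finset.sum_pi_single', Finset.sum_pi_single']
    rcases hs with rfl | rfl <;> simp [Int.ModEq]
  · have h : Leech.mod2 (Pi.single i 2 + Pi.single j (s / 2) : GolayPt → ℤ) = 0 := by
      funext k
      rcases hs with rfl | rfl <;>
      · simp only [Leech.mod2, Pi.add_apply, Pi.single_apply, Pi.zero_apply]
        split_ifs <;> decide
    rw [h]; exact Submodule.zero_mem _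

theorem sqNorm_four (i j : GolayPt) (hij : i ≠ j) (s : ℤ) (hs : s = 4 ∨ s = -4) :
    sqNorm (Pi.single i 4 + Pi.single j s : GolayPt → ℤ) = 32 := by
  rw [sqNorm_add]
  have h1 : ∀ (k : GolayPt) (c : ℤ), sqNorm (Pi.single k c : GolayPt → ℤ) = c ^ 2 := fun k c => by
    simp [sqNorm, Pi.single_apply, ite_pow]
  have h2 : dotInt (Pi.single i 4 : GolayPt → ℤ) (Pi.single j s) = 0 := by
    simp [dotInt, Pi.single_apply, hij.symm]
  rw [h1, h1, h2]
  rcases hs with rfl | rfl <;> norm_num

theorem linHom_eq_one (hp : 128 < p * p) (g : ↥Co0) (h : linHom h8 g = 1) : g = 1 := by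
  -- short vectors congruent to their images are fixed
  have hshort : ∀ v : leechLattice, sqNorm (v : GolayPt → ℤ) = 32 → g.1 v = v := by
    intro v hv
    apply Subtype.ext
    funext i
    have hm : red p (g.1 v) = red p v := by
      rw [← linHom_red h8, h]; rfl
    have hi := congrFun hm i
    rw [red_apply, red_apply, ZMod.intCast_eq_intCast_iff_dvd_sub] at hi
    obtain ⟨c, hc⟩ := hi
    set x : GolayPt → ℤ := (v : GolayPt → ℤ) with hx
    set y : GolayPt → ℤ := ((g.1 v : leechLattice) : GolayPt → ℤ) with hy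
    have h1 : x i ^ 2 ≤ 32 := by
      rw [← hv]
      exact Finset.single_le_sum (f := fun k => x k ^ 2) (fun k _ => sq_nonneg _) (Finset.mem_univ i)
    have h2 : y i ^ 2 ≤ 32 := by
      rw [← hv, ← sqNorm_map g v]
      exact Finset.single_le_sum (f := fun k => y k ^ 2) (fun k _ => sq_nonneg _) (Finset.mem_univ i)
    have h3 : ((p : ℤ) * c) ^ 2 ≤ 128 := by
      rw [← hc]; nlinarith [sq_nonneg (x i + y i)]
    have h4 : c = 0 := by
      by_contra hc0
      have h5 : 1 ≤ c ^ 2 := by nlinarith [mul_self_pos.mpr hc0]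
      have h6 : (128 : ℤ) < (p : ℤ) * p := by exact_mod_cast hp
      nlinarith
    rw [h4, mul_zero] at hc
    linarith
  have height : ∀ i, g.1 (eight i) = eight i := by
    intro i
    obtain ⟨j, hj⟩ := exists_ne i
    let a : leechLattice := ⟨_, four_mem i j hj.symm 4 (Or.inl rfl)⟩
    let b : leechLattice := ⟨_, four_mem i j hj.symm (-4) (Or.inr rfl)⟩
    have hab : eight i = a + b := by
      apply Subtype.ext
      funext k
      simp only [eight, a, b, AddSubgroup.coe_add, Pi.add_apply, Pi.single_apply]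
      split_ifs <;> norm_num
    rw [hab, map_add', hshort a (sqNorm_four i j hj.symm _ (Or.inl rfl)),
      hshort b (sqNorm_four i j hj.symm _ (Or.inr rfl))]
  apply Subtype.ext
  apply Equiv.ext
  intro v
  have h1 : addHom g ((8 : ℤ) • v) = (8 : ℤ) • v := by
    rw [eight_smul_eq v, map_sum]
    simp only [map_zsmul, addHom_apply, height]
  rw [map_zsmul, addHom_apply] at h1
  have h2 := congrArg (fun w : leechLattice => (w : GolayPt → ℤ)) h1
  apply Subtype.ext
  funext i
  have h3 := congrFun h2 i
  simp only [AddSubgroup.coe_zsmul, Pi.smul_apply, smul_eq_mul] at h3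
  show ((g.1 v : leechLattice) : GolayPt → ℤ) i = (v : GolayPt → ℤ) i
  linarith

include h8 in
/-- A group fixing a non-isotropic vector embeds in the 23-dimensional linear group. -/
theorem embed (hp : 128 < p * p) (v₀ : leechLattice)
    (hv₀ : ((sqNorm (v₀ : GolayPt → ℤ) : ℤ) : ZMod p) ≠ 0) (S : Subgroup (Equiv.Perm leechLattice))
    (hS : S ≤ Co0) (hfix : ∀ g ∈ S, g v₀ = v₀) :
    ∃ f : ↥S →* GL (Fin 23) (ZMod p), Function.Injective f := by
  set u := red p v₀ with hu
  let K := LinearMap.ker (form p u)
  have hne : form p u u ≠ 0 := by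
    rw [hu, form_red]
    rwa [show dotInt (v₀ : GolayPt → ℤ) (v₀ : GolayPt → ℤ) = sqNorm (v₀ : GolayPt → ℤ) from
      Finset.sum_congr rfl fun i _ => (sq _).symm]
  have hne' : form p u ≠ 0 := fun h => hne (by rw [h]; rfl)
  have hK : Module.finrank (ZMod p) K = 23 := by
    have h := Module.Dual.finrank_ker_add_one_of_ne_zero hne'
    rw [Module.finrank_pi, Leech.card_pt] at h
    exact Nat.succ_injective h
  let φ : ↥S →* ((GolayPt → ZMod p) →ₗ[ZMod p] (GolayPt → ZMod p)) :=
    (linHom h8).comp (Subgroup.inclusion hS)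
  have hφu : ∀ g, φ g u = u := fun g => by
    show linHom h8 _ (red p v₀) = red p v₀
    rw [linHom_red]
    exact congrArg (red p) (hfix g.1 g.2)
  have hmem : ∀ g, ∀ w ∈ K, φ g w ∈ K := fun g w hw => by
    rw [LinearMap.mem_ker] at hw ⊢
    rw [← hφu g]
    exact (form_linHom h8 _ u w).trans hw
  let ψ : ↥S →* (K →ₗ[ZMod p] K) :=
    { toFun := fun g => (φ g).restrict (hmem g)
      map_one' := by
        refine LinearMap.ext fun w => Subtype.ext ?_
        simp [LinearMap.restrict_apply]
      map_mul' := fun g h => by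
        refine LinearMap.ext fun w => Subtype.ext ?_
        simp [LinearMap.restrict_apply] }
  let b := Module.finBasisOfFinrankEq (ZMod p) K hK
  let e := LinearMap.toMatrixAlgEquiv b
  refine ⟨((e.toAlgHom.toRingHom.toMonoidHom).comp ψ).toHomUnits, ?_⟩
  rw [injective_iff_map_eq_one]
  intro g hg
  have hg' : e (ψ g) = 1 := congrArg Units.val hg
  have hψ : ψ g = 1 := e.injective (by rw [hg', map_one])
  have hφ : φ g = 1 := by
    refine LinearMap.ext fun w => ?_
    set c := form p u w / form p u u with hc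
    have hw' : w - c • u ∈ K := by
      rw [LinearMap.mem_ker, map_sub, map_smul, smul_eq_mul, hc, div_mul_cancel₀ _ hne, sub_self]
    have h1 : φ g (w - c • u) = w - c • u := by
      have := congrArg (fun f : K →ₗ[ZMod p] K => ((f ⟨_, hw'⟩ : K) : GolayPt → ZMod p)) hψ
      simpa [ψ, LinearMap.restrict_apply] using this
    rw [map_sub, map_smul, hφu g, sub_left_inj] at h1
    exact h1
  have := linHom_eq_one h8 hp _ hφ
  exact Subgroup.inclusion_injective hS (this.trans (map_one _).symm)

end Cfsg.Agent.Co0Mod
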